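import Groth.Agent.L01.CohenRing
import Groth.Agent.L12.PSRing
import Mathlib.RingTheory.TensorProduct.Maps
import Mathlib.LinearAlgebra.TensorProduct.RightExactness
import Mathlib.RingTheory.Filtration

/-!
Power series presentations of completions along a local map with extended maximal ideal
whose target is a localization of `K ⊗_k R`.
-/

set_option autoImplicit false
set_option linter.style.haveILetI false
set_option backward.isDefEq.respectTransparency false

universe u

open IsLocalRing TensorProduct

noncomputable section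

namespace Groth.L06.ComplBC

theorem constantCoeff_eq_zero {n : ℕ} {F : Type u} [Field F] {f : MvPowerSeries (Fin n) F}
    (hf : f ∈ maximalIdeal (MvPowerSeries (Fin n) F)) : MvPowerSeries.constantCoeff f = 0 := by
  have h := (Groth.L12.ps_mem_maximalIdeal_iff f).1 hf
  rwa [maximalIdeal_eq_bot, Ideal.mem_bot] at h

theorem maximalIdeal_eq_spanX {n : ℕ} (F : Type u) [Field F] :
    maximalIdeal (MvPowerSeries (Fin n) F) = Ideal.span (Set.range MvPowerSeries.X) := by
  refine le_antisymm (fun f hf => ?_) Groth.L12.span_X_le_maximalIdeal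
  have h1 := Groth.L12.sub_truncTotal_mem f 1
  rw [pow_one] at h1
  have h0 : MvPowerSeries.truncTotal 1 f = 0 := by
    refine MvPolynomial.ext _ _ fun d => ?_
    rw [MvPolynomial.coeff_zero]
    by_cases hd : d.degree < 1
    · rw [MvPowerSeries.coeff_truncTotal _ hd]
      have : d = 0 := (Finsupp.degree_eq_zero_iff d).1 (by omega)
      subst this
      have h := (Groth.L12.ps_mem_maximalIdeal_iff f).1 hf
      simpa [MvPowerSeries.coeff_zero_eq_constantCoeff] using h
    · exact MvPowerSeries.coeff_truncTotal_eq_zero _ (not_lt.1 hd)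
  rwa [h0, MvPolynomial.coe_zero, sub_zero] at h1

/-- Ring maps out of power series agreeing on constants and variables and sending the variables
into an ideal with nilpotent power agree. -/
theorem ringHom_ext_nilp {n N : ℕ} {F : Type u} [CommRing F] {T : Type u} [CommRing T]
    (f g : MvPowerSeries (Fin n) F →+* T) (hC : ∀ c, f (MvPowerSeries.C c) = g (MvPowerSeries.C c))
    (hX : ∀ i, f (MvPowerSeries.X i) = g (MvPowerSeries.X i))
    (hN : (Ideal.span (Set.range (MvPowerSeries.X : Fin n → MvPowerSeries (Fin n) F)) ^ N).map g ≤ ⊥) :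
    f = g := by
  have key : ∀ q : MvPolynomial (Fin n) F, f (q : MvPowerSeries (Fin n) F) = g q := fun q => by
    induction q using MvPolynomial.induction_on with
    | C r => rw [MvPolynomial.coe_C]; exact hC r
    | add a b ha hb => rw [MvPolynomial.coe_add, map_add, map_add, ha, hb]
    | mul_X a i ha => rw [MvPolynomial.coe_mul, MvPolynomial.coe_X, map_mul, map_mul, ha, hX i]
  have hf : (Ideal.span (Set.range (MvPowerSeries.X : Fin n → MvPowerSeries (Fin n) F)) ^ N).map f ≤ ⊥ := by
    refine le_of_eq_of_le ?_ hN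
    rw [Ideal.map_pow, Ideal.map_pow, Ideal.map_span, Ideal.map_span, ← Set.range_comp, ← Set.range_comp]
    exact congrArg (fun s => Ideal.span (Set.range s) ^ N) (funext hX)
  ext p
  have h := Groth.L12.sub_truncTotal_mem p N
  have h1 : f (p - (MvPowerSeries.truncTotal N p : MvPolynomial (Fin n) F)) = 0 := hf (Ideal.mem_map_of_mem f h)
  have h2 : g (p - (MvPowerSeries.truncTotal N p : MvPolynomial (Fin n) F)) = 0 := hN (Ideal.mem_map_of_mem g h)
  rw [map_sub, sub_eq_zero] at h1 h2
  rw [h1, h2, key]

variable {k K R R' : Type u} [Field k] [Field K] [Algebra k K]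
  [CommRing R] [IsLocalRing R] [IsNoetherianRing R] [CommRing R'] [IsLocalRing R'] [IsNoetherianRing R']
  [Algebra k R] [Algebra k R'] [Algebra K R'] [IsScalarTower k K R']
  [Algebra R R'] [IsScalarTower k R R'] [IsLocalHom (algebraMap R R')]

variable (k K R R') in
/-- The map `K ⊗ R → R'`. -/
abbrev eta : K ⊗[k] R →ₐ[k] R' :=
  Algebra.TensorProduct.productMap (IsScalarTower.toAlgHom k K R') (IsScalarTower.toAlgHom k R R')

variable (R R') in
/-- The levels of the map on completions. -/
def levels (hm : (maximalIdeal R).map (algebraMap R R') = maximalIdeal R') (n : ℕ) :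
    AdicCompletion (maximalIdeal R) R →+* R' ⧸ maximalIdeal R' ^ n :=
  (Ideal.quotientMap ((maximalIdeal R') ^ n) (algebraMap R R')
      (Ideal.map_le_iff_le_comap.mp (by rw [Ideal.map_pow, hm]) : maximalIdeal R ^ n ≤
        (maximalIdeal R' ^ n).comap (algebraMap R R'))).comp (AdicCompletion.evalₐ (maximalIdeal R) n).toRingHom

theorem levels_comp (hm : (maximalIdeal R).map (algebraMap R R') = maximalIdeal R') {a b : ℕ} (hab : a ≤ b) :
    (Ideal.Quotient.factorPow (maximalIdeal R') hab).comp (levels R R' hm b) = levels R R' hm a := by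
  ext x
  obtain ⟨z, rfl⟩ := AdicCompletion.mk_surjective (maximalIdeal R) R x
  simp only [levels, RingHom.comp_apply, AlgHom.toRingHom_eq_coe, RingHom.coe_coe, AdicCompletion.evalₐ_mk]
  show Ideal.Quotient.mk _ (algebraMap R R' (z.val b)) = Ideal.Quotient.mk _ (algebraMap R R' (z.val a))
  rw [Ideal.Quotient.eq, ← map_sub]
  refine (show (maximalIdeal R ^ a).map (algebraMap R R') ≤ maximalIdeal R' ^ a by rw [Ideal.map_pow, hm])
    (Ideal.mem_map_of_mem _ ?_)
  have := (z.property hab).symm
  rwa [SModEq.sub_mem, smul_eq_mul, Ideal.mul_top] at this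

variable (R R') in
/-- The map on completions. -/
def complMap (hm : (maximalIdeal R).map (algebraMap R R') = maximalIdeal R') :
    AdicCompletion (maximalIdeal R) R →+* AdicCompletion (maximalIdeal R') R' :=
  AdicCompletion.liftRingHom (maximalIdeal R') (levels R R' hm) (levels_comp hm)

variable (hm : (maximalIdeal R).map (algebraMap R R') = maximalIdeal R')

theorem evalₐ_complMap (n : ℕ) (x : AdicCompletion (maximalIdeal R) R) (r : R)
    (hr : AdicCompletion.evalₐ (maximalIdeal R) n x = Ideal.Quotient.mk _ r) :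
    AdicCompletion.evalₐ (maximalIdeal R') n (complMap R R' hm x) = Ideal.Quotient.mk _ (algebraMap R R' r) := by
  refine (AdicCompletion.evalₐ_liftRingHom (maximalIdeal R') (levels R R' hm) (levels_comp hm) n x).trans ?_
  simp only [levels, RingHom.comp_apply, AlgHom.toRingHom_eq_coe, RingHom.coe_coe, hr]
  rfl

theorem complMap_algebraMap (r : R) :
    complMap R R' hm (algebraMap R _ r) = algebraMap R' _ (algebraMap R R' r) :=
  AdicCompletion.ext_evalₐ fun n => by
    rw [evalₐ_complMap hm n _ r (by rw [AlgHom.commutes]; rfl), AlgHom.commutes]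
    rfl

/-- Presentations of completions ascend. -/
theorem exists_equiv {n m : ℕ} (g : Fin m → MvPowerSeries (Fin n) (ResidueField R))
    (e : (MvPowerSeries (Fin n) (ResidueField R) ⧸ Ideal.span (Set.range g)) ≃+*
      AdicCompletion (maximalIdeal R) R)
    (he : ∀ a : R, e (Ideal.Quotient.mk _ (MvPowerSeries.C (residue R a))) - algebraMap R _ a ∈
      (maximalIdeal R).map (algebraMap R (AdicCompletion (maximalIdeal R) R)))
    (hek : ∀ c : k, e (Ideal.Quotient.mk _ (MvPowerSeries.C (residue R (algebraMap k R c)))) =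
      algebraMap R _ (algebraMap k R c))
    (hm : (maximalIdeal R).map (algebraMap R R') = maximalIdeal R')
    (hfrac : ∀ v : R', ∃ a s : K ⊗[k] R, IsUnit (eta k K R R' s) ∧ v * eta k K R R' s = eta k K R R' a)
    (hker : ∀ a b : K ⊗[k] R, eta k K R R' a = eta k K R R' b →
      ∃ s, IsUnit (eta k K R R' s) ∧ s * a = s * b) :
    ∃ e' : (MvPowerSeries (Fin n) (ResidueField R') ⧸ Ideal.span (Set.range fun j =>
        MvPowerSeries.map (ResidueField.map (algebraMap R R')) (g j))) ≃+*
        AdicCompletion (maximalIdeal R') R',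
      (∀ c : K, e' (Ideal.Quotient.mk _ (MvPowerSeries.C (residue R' (algebraMap K R' c)))) =
        algebraMap R' _ (algebraMap K R' c)) ∧
      ∀ b : R', e' (Ideal.Quotient.mk _ (MvPowerSeries.C (residue R' b))) - algebraMap R' _ b ∈
        (maximalIdeal R').map (algebraMap R' (AdicCompletion (maximalIdeal R') R')) := by
  let η := eta k K R R'
  let S : Submonoid (K ⊗[k] R) := (IsUnit.submonoid R').comap η
  letI algη : Algebra (K ⊗[k] R) R' := η.toRingHom.toAlgebra
  haveI locη : IsLocalization S R' := by
    refine ⟨fun y => y.2, fun v => ?_, fun {a b} h => ?_⟩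
    · obtain ⟨a, s, hs, h⟩ := hfrac v
      exact ⟨(a, ⟨s, hs⟩), h⟩
    · obtain ⟨s, hs, h'⟩ := hker a b h
      exact ⟨⟨s, hs⟩, h'⟩
  haveI hc : IsAdicComplete (maximalIdeal (AdicCompletion (maximalIdeal R') R'))
      (AdicCompletion (maximalIdeal R') R') := AdicCompletion.isAdicComplete_of_fg (maximalIdeal R').fg_of_isNoetherianRing
  let Rh := AdicCompletion (maximalIdeal R) R
  let Sh := AdicCompletion (maximalIdeal R') R'
  let κ := ResidueField R
  let κ' := ResidueField R'
  let P := MvPowerSeries (Fin n) κ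
  let P' := MvPowerSeries (Fin n) κ'
  let ρ : κ →+* κ' := ResidueField.map (algebraMap R R')
  let Mρ : P →+* P' := MvPowerSeries.map ρ
  let ι := complMap R R' hm
  let ε : P →+* Rh := e.toRingHom.comp (Ideal.Quotient.mk _)
  have εsurj : Function.Surjective ε := e.surjective.comp Ideal.Quotient.mk_surjective
  let τ : κ →+* Rh := ε.comp MvPowerSeries.C
  have hmh : (maximalIdeal R).map (algebraMap R Rh) = maximalIdeal Rh := AdicCompletion.maximalIdeal_eq_map.symm
  have hmh' : (maximalIdeal R').map (algebraMap R' Sh) = maximalIdeal Sh := AdicCompletion.maximalIdeal_eq_map.symm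
  have hιm : (maximalIdeal Rh).map ι = maximalIdeal Sh := by
    rw [← hmh, Ideal.map_map, ← hmh']
    refine Eq.trans ?_ (congrArg (Ideal.map (algebraMap R' Sh)) hm)
    rw [Ideal.map_map]
    exact congrArg (fun f => Ideal.map f _) (RingHom.ext fun r => complMap_algebraMap hm r)
  have hεm : (maximalIdeal P).map ε = maximalIdeal Rh := by
    rcases Ideal.map_eq_top_or_isMaximal_of_surjective ε εsurj (maximalIdeal.isMaximal P) with h | h
    · refine absurd ?_ (maximalIdeal.isMaximal P).ne_top
      have h' := congrArg (Ideal.comap ε) h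
      rw [Ideal.comap_map_of_surjective ε εsurj, Ideal.comap_top] at h'
      refine top_le_iff.mp (h'.ge.trans (sup_le le_rfl (IsLocalRing.le_maximalIdeal ?_)))
      rw [← RingHom.ker_eq_comap_bot]
      exact RingHom.ker_ne_top ε
    · exact IsLocalRing.eq_maximalIdeal h
  -- coefficient map
  let ψ : K ⊗[k] κ →ₐ[k] Sh := Algebra.TensorProduct.productMap
    (AlgHom.mk ((algebraMap R' Sh).comp (algebraMap K R')) fun c => by
      show algebraMap R' Sh (algebraMap K R' (algebraMap k K c)) = _
      rw [← IsScalarTower.algebraMap_apply k K R', ← IsScalarTower.algebraMap_apply k R' Sh])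
    (AlgHom.mk (ι.comp τ) fun c => by
      show ι (e (Ideal.Quotient.mk _ (MvPowerSeries.C (residue R (algebraMap k R c))))) = _
      rw [hek, complMap_algebraMap hm, ← IsScalarTower.algebraMap_apply k R R', ← IsScalarTower.algebraMap_apply k R' Sh])
  let θ : K ⊗[k] κ →ₐ[k] κ' := Algebra.TensorProduct.productMap
    (IsScalarTower.toAlgHom k K κ') (AlgHom.mk ρ fun c => by
      show ρ (residue R (algebraMap k R c)) = residue R' (algebraMap k R' c)
      rw [IsLocalRing.ResidueField.map_residue, ← IsScalarTower.algebraMap_apply k R R'])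
  let π : K ⊗[k] R →ₐ[k] K ⊗[k] κ := Algebra.TensorProduct.map (AlgHom.id k K) (IsScalarTower.toAlgHom k R κ)
  have πsurj : Function.Surjective π :=
    TensorProduct.map_surjective (g := (LinearMap.id : K →ₗ[k] K)) (g' := (IsScalarTower.toAlgHom k R κ).toLinearMap)
      Function.surjective_id residue_surjective
  let I : Ideal (K ⊗[k] R) := (maximalIdeal R).map (Algebra.TensorProduct.includeRight : R →ₐ[k] K ⊗[k] R)
  have hπI : ∀ a ∈ I, π a = 0 := by
    have : I ≤ RingHom.ker π := Ideal.map_le_iff_le_comap.mpr fun r hr => by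
      show π ((1 : K) ⊗ₜ[k] r) = 0
      show (1 : K) ⊗ₜ[k] residue R r = 0
      rw [(residue_eq_zero_iff r).mpr hr, tmul_zero]
    exact fun a ha => this ha
  have hηI : I.map η = maximalIdeal R' := by
    rw [← hm]
    change Ideal.map (η : K ⊗[k] R →+* R') (Ideal.map (Algebra.TensorProduct.includeRight : R →ₐ[k] K ⊗[k] R).toRingHom _) = _
    rw [Ideal.map_map]
    exact congrArg (fun f => Ideal.map f _) (RingHom.ext fun r => by simp [η])
  have hθπ : ∀ a, θ (π a) = residue R' (η a) := fun a => by
    induction a using TensorProduct.induction_on with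
    | zero => simp
    | tmul c r =>
      simp only [θ, π, η, Algebra.TensorProduct.map_tmul, Algebra.TensorProduct.productMap_apply_tmul,
        map_mul, AlgHom.coe_id, id_eq, IsScalarTower.coe_toAlgHom']
      congr 1
    | add a b ha hb => simp only [map_add, ha, hb]
  have hψπ : ∀ a, ψ (π a) - algebraMap R' Sh (η a) ∈ maximalIdeal Sh := fun a => by
    induction a using TensorProduct.induction_on with
    | zero => simp
    | tmul c r =>
      simp only [ψ, π, η, Algebra.TensorProduct.map_tmul, Algebra.TensorProduct.productMap_apply_tmul,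
        map_mul, AlgHom.coe_id, id_eq, IsScalarTower.coe_toAlgHom']
      show algebraMap R' Sh (algebraMap K R' c) * ι (τ (residue R r)) -
        algebraMap R' Sh (algebraMap K R' c) * algebraMap R' Sh (algebraMap R R' r) ∈ _
      rw [← mul_sub, ← complMap_algebraMap hm, ← map_sub, ← hιm]
      exact Ideal.mul_mem_left _ _ (Ideal.mem_map_of_mem ι (hmh.le (he r)))
    | add a b ha hb =>
      simp only [map_add]
      convert add_mem ha hb using 1
      ring
  letI algθ : Algebra (K ⊗[k] κ) κ' := θ.toRingHom.toAlgebra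
  let S0 : Submonoid (K ⊗[k] κ) := (IsUnit.submonoid κ').comap θ
  have hS0 : ∀ a, IsUnit (η a) → π a ∈ S0 := fun a ha => by
    show IsUnit (θ (π a))
    rw [hθπ]
    exact ha.map _
  haveI locθ : IsLocalization S0 κ' := by
    refine ⟨fun y => y.2, fun v => ?_, fun {z z'} h => ?_⟩
    · obtain ⟨w, rfl⟩ := residue_surjective v
      obtain ⟨a, s, hs, h⟩ := hfrac w
      refine ⟨(π a, ⟨π s, hS0 s hs⟩), ?_⟩
      show residue R' w * θ (π s) = θ (π a)
      rw [hθπ, hθπ, ← map_mul]
      exact congrArg _ h
    · obtain ⟨a, ha⟩ := πsurj (z - z')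
      have h0 : η a ∈ I.map η := by
        rw [hηI, ← residue_eq_zero_iff, ← hθπ, ha, map_sub, sub_eq_zero]
        exact h
      obtain ⟨s, hs, hsa⟩ := (IsLocalization.algebraMap_mem_map_algebraMap_iff S R' I a).mp h0
      refine ⟨⟨π s, hS0 s hs⟩, sub_eq_zero.mp ?_⟩
      show π s * z - π s * z' = 0
      rw [← mul_sub, ← ha, ← map_mul]
      exact hπI _ hsa
  have hψu : ∀ z : S0, IsUnit (ψ (z : K ⊗[k] κ)) := fun z => by
    obtain ⟨a, ha⟩ := πsurj z
    have hz : IsUnit (θ z) := z.2
    rw [← ha, hθπ] at hz
    rw [← ha]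
    have h1 : algebraMap R' Sh (η a) ∉ maximalIdeal Sh := fun h => by
      have h2 : IsUnit (η a) := IsUnit.of_map (residue R') (η a) hz
      exact (mem_maximalIdeal _).mp h (h2.map _)
    by_contra h
    exact h1 (by
      have h2 := sub_mem (((mem_maximalIdeal _).mpr h)) (hψπ a)
      rwa [sub_sub_cancel] at h2)
  let σ : κ' →+* Sh := IsLocalization.lift (M := S0) (g := ψ.toRingHom) hψu
  have hσθ : ∀ z, σ (θ z) = ψ z := fun z => IsLocalization.lift_eq hψu z
  have hσres : ∀ b : R', σ (residue R' b) - algebraMap R' Sh b ∈ maximalIdeal Sh := fun b => by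
    obtain ⟨a, s, hs, h⟩ := hfrac b
    have h1 : σ (residue R' b) * ψ (π s) = ψ (π a) := by
      rw [← hσθ, ← hσθ, hθπ, hθπ, ← map_mul σ, ← map_mul]
      exact congrArg _ (congrArg _ h)
    have hu : IsUnit (algebraMap R' Sh (η s)) := hs.map _
    rw [← residue_eq_zero_iff, map_sub, sub_eq_zero]
    have e1 : ∀ x, residue Sh (ψ (π x)) = residue Sh (algebraMap R' Sh (η x)) := fun x =>
      sub_eq_zero.mp (by rw [← map_sub, residue_eq_zero_iff]; exact hψπ x)
    have h2 := congrArg (residue Sh) h1
    rw [map_mul, e1, e1, ← show b * η s = η a from h, map_mul, map_mul] at h2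
    exact (hu.map (residue Sh)).mul_right_cancel h2
  -- the map from power series
  let u : Fin n → Sh := fun i => ι (ε (MvPowerSeries.X i))
  have hu : Ideal.span (Set.range u) = maximalIdeal Sh := by
    rw [← hιm, ← hεm, maximalIdeal_eq_spanX, Ideal.map_map, Ideal.map_span, ← Set.range_comp]
    rfl
  obtain ⟨φ, hφC, hφX, hφs⟩ := Groth.L01.Cohen.exists_surjective_powerSeries σ (fun y => by
    obtain ⟨z, hz⟩ := (AdicCompletion.residueField_map_bijective R').2 y
    obtain ⟨b, rfl⟩ := residue_surjective z
    refine ⟨residue R' b, ?_⟩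
    rw [← hz, RingHom.comp_apply, IsLocalRing.ResidueField.map_residue, ← sub_eq_zero, ← map_sub, residue_eq_zero_iff]
    exact hσres b) u hu
  have hφC' : ∀ c, φ (MvPowerSeries.C c) = σ c := fun c => RingHom.congr_fun hφC c
  have hρθ : ∀ c : κ, θ ((1 : K) ⊗ₜ[k] c) = ρ c := fun c => by simp [θ]
  have hψ1 : ∀ c : κ, ψ ((1 : K) ⊗ₜ[k] c) = ι (τ c) := fun c => by simp [ψ]; rfl
  have hφM : φ.comp Mρ = ι.comp ε := by
    letI : Algebra κ Sh := (ι.comp τ).toAlgebra
    have hC : ∀ c : κ, algebraMap κ P c = MvPowerSeries.C c := fun c => by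
      rw [MvPowerSeries.algebraMap_apply, Algebra.algebraMap_self_apply]
    let f1 : P →ₐ[κ] Sh := AlgHom.mk (φ.comp Mρ) fun c => by
      show φ (Mρ (algebraMap κ P c)) = ι (τ c)
      rw [hC, show Mρ (MvPowerSeries.C c) = MvPowerSeries.C (ρ c) from MvPowerSeries.map_C _ _, hφC', ← hρθ, hσθ, hψ1]
    let f2 : P →ₐ[κ] Sh := AlgHom.mk (ι.comp ε) fun c => by
      show ι (ε (algebraMap κ P c)) = ι (τ c)
      rw [hC]
      rfl
    have hX : ∀ i, f1 (MvPowerSeries.X i) = u i := fun i => by
      show φ (Mρ (MvPowerSeries.X i)) = _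
      rw [show Mρ (MvPowerSeries.X i) = MvPowerSeries.X i from MvPowerSeries.map_X _ _, hφX]
    exact congrArg AlgHom.toRingHom (Groth.L12.evalPS_ext (maximalIdeal Sh) (φ := f1) (ψ := f2)
      (fun i => by rw [hX]; exact hu.le (Ideal.subset_span ⟨i, rfl⟩)) (fun i => hX i))
  let J : Ideal P' := Ideal.span (Set.range fun j => Mρ (g j))
  have hgε : ∀ j, ε (g j) = 0 := fun j => by
    show e (Ideal.Quotient.mk _ (g j)) = 0
    rw [show Ideal.Quotient.mk (Ideal.span (Set.range g)) (g j) = 0 from
      Ideal.Quotient.eq_zero_iff_mem.mpr (Ideal.subset_span (Set.mem_range_self j)), map_zero]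
  have hJ : J ≤ RingHom.ker φ := Ideal.span_le.mpr (by
    rintro - ⟨j, rfl⟩
    show φ (Mρ (g j)) = 0
    rw [← RingHom.comp_apply φ Mρ, hφM, RingHom.comp_apply, hgε, map_zero])
  have hJm : J ≤ maximalIdeal P' := hJ.trans (IsLocalRing.le_maximalIdeal (RingHom.ker_ne_top φ))
  -- injectivity
  have hker' : RingHom.ker φ ≤ J := by
    intro f hf
    have key : ∀ N, f ∈ J ⊔ maximalIdeal P' ^ (N + 1) := fun N => by
      let Jn := J ⊔ maximalIdeal P' ^ (N + 1)
      have hJn : Jn ≤ maximalIdeal P' := sup_le hJm (Ideal.pow_le_self (Nat.succ_ne_zero N))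
      let q : P' →+* P' ⧸ Jn := Ideal.Quotient.mk Jn
      let w : Rh →+* P' ⧸ Jn := (Ideal.Quotient.lift (Ideal.span (Set.range g)) (q.comp Mρ) (by
        show Ideal.span (Set.range g) ≤ RingHom.ker (q.comp Mρ)
        refine Ideal.span_le.mpr ?_
        rintro - ⟨j, rfl⟩
        exact Ideal.Quotient.eq_zero_iff_mem.mpr (le_sup_left (b := maximalIdeal P' ^ (N + 1))
          (Ideal.subset_span ⟨j, rfl⟩)))).comp e.symm.toRingHom
      have hwε : ∀ p, w (ε p) = q (Mρ p) := fun p => by
        simp only [w, ε, RingHom.comp_apply, RingEquiv.toRingHom_eq_coe, RingHom.coe_coe,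
          RingEquiv.symm_apply_apply, Ideal.Quotient.lift_mk]
        erw [RingHom.comp_apply, e.symm_apply_apply]
        rfl
      let h : K ⊗[k] R →ₐ[k] P' ⧸ Jn := Algebra.TensorProduct.productMap
        (IsScalarTower.toAlgHom k K (P' ⧸ Jn))
        (AlgHom.mk (w.comp (algebraMap R Rh)) fun c => by
          show w (algebraMap R Rh (algebraMap k R c)) = _
          rw [← hek]
          show w (ε (MvPowerSeries.C (residue R (algebraMap k R c)))) = _
          rw [hwε, show Mρ (MvPowerSeries.C (residue R (algebraMap k R c))) =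
            MvPowerSeries.C (ρ (residue R (algebraMap k R c))) from MvPowerSeries.map_C _ _,
            IsLocalRing.ResidueField.map_residue, ← IsScalarTower.algebraMap_apply k R R']
          show _ = q (algebraMap k P' c)
          rw [MvPowerSeries.algebraMap_apply]
          rfl)
      let cc : P' ⧸ Jn →+* κ' := Ideal.Quotient.lift Jn MvPowerSeries.constantCoeff fun x hx => constantCoeff_eq_zero (hJn hx)
      have hcc : ∀ a, cc (h a) = residue R' (η a) := fun a => by
        induction a using TensorProduct.induction_on with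
        | zero => simp
        | tmul c r =>
          simp only [h, η, Algebra.TensorProduct.productMap_apply_tmul, map_mul, IsScalarTower.coe_toAlgHom']
          congr 1
          show cc (w (algebraMap R Rh r)) = _
          obtain ⟨p, hp, hp'⟩ := (Ideal.mem_map_iff_of_surjective ε εsurj).mp (hεm.ge (hmh.le (he r)))
          have : algebraMap R Rh r = ε (MvPowerSeries.C (residue R r) - p) := by
            rw [map_sub, hp']
            show _ = e (Ideal.Quotient.mk _ (MvPowerSeries.C (residue R r))) - _
            abel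
          rw [this, hwε]
          show MvPowerSeries.constantCoeff (Mρ (MvPowerSeries.C (residue R r) - p)) = _
          rw [map_sub, map_sub, MvPowerSeries.constantCoeff_map, MvPowerSeries.constantCoeff_map,
            MvPowerSeries.constantCoeff_C,
            constantCoeff_eq_zero hp,
            map_zero, sub_zero]
          exact IsLocalRing.ResidueField.map_residue _ _
        | add a b ha hb => simp only [map_add, ha, hb]
      have hhu : ∀ s : S, IsUnit (h (s : K ⊗[k] R)) := fun s => by
        obtain ⟨y, hy⟩ := Ideal.Quotient.mk_surjective (h (s : K ⊗[k] R))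
        have h1 : MvPowerSeries.constantCoeff y = residue R' (η s) := by
          rw [← hcc, ← hy]
          rfl
        rw [← hy]
        exact (MvPowerSeries.isUnit_iff_constantCoeff.mpr (h1 ▸ (s.2.map _))).map _
      let χ : R' →+* P' ⧸ Jn := IsLocalization.lift (M := S) (g := h.toRingHom) hhu
      have hχη : ∀ a, χ (η a) = h a := fun a => IsLocalization.lift_eq hhu a
      have hχR : ∀ r, χ (algebraMap R R' r) = w (algebraMap R Rh r) := fun r => by
        rw [show algebraMap R R' r = η ((1 : K) ⊗ₜ r) by simp [η], hχη]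
        simp [h]
      have hχK : ∀ c, χ (algebraMap K R' c) = q (MvPowerSeries.C (algebraMap K κ' c)) := fun c => by
        rw [show algebraMap K R' c = η (c ⊗ₜ (1 : R)) by simp [η], hχη]
        simp only [h, Algebra.TensorProduct.productMap_apply_tmul, map_one, mul_one, IsScalarTower.coe_toAlgHom']
        show q (algebraMap K P' c) = _
        rw [MvPowerSeries.algebraMap_apply]
      have hw0 : ((maximalIdeal Rh) ^ (N + 1)).map w = ⊥ := by
        rw [Ideal.map_pow, ← hεm, Ideal.map_map, show w.comp ε = q.comp Mρ from RingHom.ext hwε,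
          ← Ideal.map_map, ← Ideal.map_pow, eq_bot_iff]
        have h1 : (maximalIdeal P).map Mρ ≤ maximalIdeal P' := by
          rw [maximalIdeal_eq_spanX, maximalIdeal_eq_spanX, Ideal.map_span, ← Set.range_comp]
          refine le_of_eq (congrArg (fun s => Ideal.span (Set.range s)) (funext fun i => ?_))
          exact MvPowerSeries.map_X _ _
        refine (Ideal.map_mono (Ideal.pow_right_mono h1 (N + 1))).trans ?_
        rw [Ideal.map_le_iff_le_comap]
        exact fun x hx => Ideal.Quotient.eq_zero_iff_mem.mpr (le_sup_right (a := J) hx)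
      have hχ0 : ∀ x ∈ maximalIdeal R' ^ (N + 1), χ x = 0 := by
        have : (maximalIdeal R' ^ (N + 1)).map χ ≤ ⊥ := by
          rw [show maximalIdeal R' ^ (N + 1) = (maximalIdeal R ^ (N + 1)).map (algebraMap R R') by rw [Ideal.map_pow, hm],
            Ideal.map_map, show χ.comp (algebraMap R R') = w.comp (algebraMap R Rh)
            from RingHom.ext hχR, ← Ideal.map_map, Ideal.map_pow, hmh, hw0]
        exact fun x hx => this (Ideal.mem_map_of_mem χ hx)
      let Ξ : Sh →+* P' ⧸ Jn :=
        (Ideal.Quotient.lift _ χ hχ0).comp (AdicCompletion.evalₐ (maximalIdeal R') (N + 1)).toRingHom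
      have hΞ : ∀ x, Ξ (algebraMap R' Sh x) = χ x := fun x => by
        show Ideal.Quotient.lift _ χ hχ0 (AdicCompletion.evalₐ (maximalIdeal R') (N + 1) (algebraMap R' Sh x)) = _
        rw [AlgHom.commutes]
        rfl
      have hΞι : ∀ x, Ξ (ι x) = w x := fun x => by
        obtain ⟨r, hr⟩ := Ideal.Quotient.mk_surjective (AdicCompletion.evalₐ (maximalIdeal R) (N + 1) x)
        have h1 : x - algebraMap R Rh r ∈ (maximalIdeal Rh) ^ (N + 1) := by
          have hk : AdicCompletion.evalₐ (maximalIdeal R) (N + 1) (x - algebraMap R Rh r) = 0 := by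
            rw [map_sub, AlgHom.commutes, ← hr]
            exact sub_self _
          have hk' : AdicCompletion.eval (maximalIdeal R) R (N + 1) (x - algebraMap R Rh r) = 0 := by
            rw [← AdicCompletion.factor_evalₐ_eq_eval _ _ (le_of_eq (Ideal.mul_top _).symm), hk, map_zero]
          rw [← LinearMap.mem_ker, ← AdicCompletion.pow_smul_top_eq_ker_eval (maximalIdeal R).fg_of_isNoetherianRing,
            Ideal.smul_top_eq_map, Submodule.restrictScalars_mem, Ideal.map_pow, hmh] at hk'
          exact hk'
        show Ideal.Quotient.lift _ χ hχ0 (AdicCompletion.evalₐ (maximalIdeal R') (N + 1) (ι x)) = _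
        rw [evalₐ_complMap hm (N + 1) x r hr.symm, Ideal.Quotient.lift_mk, hχR]
        refine (sub_eq_zero.mp ?_).symm
        rw [← map_sub]
        exact hw0.le (Ideal.mem_map_of_mem w h1)
      have hΞC : ∀ c, Ξ (φ (MvPowerSeries.C c)) = q (MvPowerSeries.C c) := by
        have : Ξ.comp σ = q.comp MvPowerSeries.C := by
          refine IsLocalization.ringHom_ext S0 (RingHom.ext fun z => ?_)
          show Ξ (σ (θ z)) = q (MvPowerSeries.C (θ z))
          rw [hσθ]
          induction z using TensorProduct.induction_on with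
          | zero => simp
          | tmul c y =>
            simp only [ψ, θ, Algebra.TensorProduct.productMap_apply_tmul, map_mul, IsScalarTower.coe_toAlgHom']
            congr 1
            · exact (hΞ _).trans (hχK c)
            · show Ξ (ι (τ y)) = q (MvPowerSeries.C (ρ y))
              rw [hΞι]
              show w (ε (MvPowerSeries.C y)) = _
              rw [hwε, show Mρ (MvPowerSeries.C y) = MvPowerSeries.C (ρ y) from MvPowerSeries.map_C _ _]
          | add a b ha hb => simp only [map_add, ha, hb]
        exact fun c => by rw [hφC']; exact RingHom.congr_fun this c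
      have hΞX : ∀ i, Ξ (φ (MvPowerSeries.X i)) = q (MvPowerSeries.X i) := fun i => by
        rw [hφX, hΞι, hwε, show Mρ (MvPowerSeries.X i) = MvPowerSeries.X i from MvPowerSeries.map_X _ _]
      have hEq := ringHom_ext_nilp (N := N + 1) (Ξ.comp φ) q hΞC hΞX (by
        rw [← maximalIdeal_eq_spanX, Ideal.map_le_iff_le_comap]
        exact fun x hx => Ideal.Quotient.eq_zero_iff_mem.mpr (le_sup_right (a := J) hx))
      have h1 := RingHom.congr_fun hEq f
      rw [RingHom.comp_apply, RingHom.mem_ker.mp hf, map_zero] at h1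
      exact Ideal.Quotient.eq_zero_iff_mem.mp h1.symm
    haveI : Nontrivial (P' ⧸ J) := Ideal.Quotient.nontrivial_iff.mpr
      (ne_top_of_le_ne_top (maximalIdeal.isMaximal P').ne_top hJm)
    haveI : IsLocalRing (P' ⧸ J) := IsLocalRing.of_surjective' (Ideal.Quotient.mk J) Ideal.Quotient.mk_surjective
    have h0 : Ideal.Quotient.mk J f ∈ ⨅ N : ℕ, maximalIdeal (P' ⧸ J) ^ N := by
      rw [Submodule.mem_iInf]
      intro N
      refine Ideal.pow_le_pow_right N.le_succ ?_
      obtain ⟨a, ha, b, hb, rfl⟩ := Submodule.mem_sup.mp (key N)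
      rw [map_add, Ideal.Quotient.eq_zero_iff_mem.mpr ha, zero_add]
      refine Ideal.pow_right_mono ?_ (N + 1) (Ideal.map_pow (Ideal.Quotient.mk J) _ _ ▸ Ideal.mem_map_of_mem _ hb)
      rw [Ideal.map_le_iff_le_comap]
      refine fun x hx => ?_
      rw [Ideal.mem_comap, mem_maximalIdeal, mem_nonunits_iff]
      rintro hux
      obtain ⟨y, hy⟩ := Ideal.Quotient.mk_surjective (↑(hux.unit⁻¹) : P' ⧸ J)
      have h1 : x * y - 1 ∈ J := by
        rw [← Ideal.Quotient.eq, map_mul, hy, map_one]
        exact hux.mul_val_inv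
      exact (maximalIdeal.isMaximal P').ne_top ((Ideal.eq_top_iff_one _).mpr (by
        simpa using sub_mem (Ideal.mul_mem_right y _ hx) (hJm h1)))
    rw [Ideal.iInf_pow_eq_bot_of_isLocalRing _ (maximalIdeal.isMaximal _).ne_top, Ideal.mem_bot] at h0
    exact Ideal.Quotient.eq_zero_iff_mem.mp h0
  let e' : (P' ⧸ J) ≃+* Sh := (Ideal.quotEquivOfEq (le_antisymm hJ hker')).trans
    (RingHom.quotientKerEquivOfSurjective hφs)
  have he' : ∀ p, e' (Ideal.Quotient.mk J p) = φ p := fun p => rfl
  refine ⟨e', fun c => ?_, fun b => ?_⟩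
  · rw [he', hφC', show residue R' (algebraMap K R' c) = θ (c ⊗ₜ (1 : κ)) by simp [θ]; rfl, hσθ]
    simp [ψ]
    rfl
  · rw [he', hφC', hmh']
    exact hσres b

end Groth.L06.ComplBC
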