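import Groth.Agent.L07.FieldStalk
import Groth.Agent.L06.FlatFibre
import Groth.Agent.L06.ComplBC.Core
import Mathlib.AlgebraicGeometry.Geometrically.Reduced

/-!
The local ring of a base change over a field as a localization of `K ⊗ O_x`, and the case of a
zero-dimensional reduced fibre.
-/

set_option autoImplicit false
set_option linter.style.haveILetI false
set_option backward.isDefEq.respectTransparency false
set_option backward.isDefEq.respectTransparency.types false
set_option maxSynthPendingDepth 3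
set_option synthInstance.maxHeartbeats 400000

universe u

open CategoryTheory CategoryTheory.Limits AlgebraicGeometry TensorProduct IsLocalRing

noncomputable section

namespace Groth.L06.ComplBC

attribute [local instance] Curv2.stalkAlgebra

variable (k : Type u) [Field k] (X : Scheme.{u}) [X.Over (Spec (CommRingCat.of k))]
  (K : Type u) [Field K] [Algebra k K]

/-- The chart `Spec (K ⊗ O_x) ⟶ X_K` with both projections. -/
theorem exists_chart (x : X) :
    ∃ σ : Spec (CommRingCat.of (K ⊗[k] X.presheaf.stalk x)) ⟶ Curv2.bc k X K,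
      (∀ Q, IsIso (σ.stalkMap Q)) ∧
      σ ≫ Curv2.bcFst k X K = Spec.map (CommRingCat.ofHom
        (Algebra.TensorProduct.includeRight :
          X.presheaf.stalk x →ₐ[k] K ⊗[k] X.presheaf.stalk x).toRingHom) ≫ X.fromSpecStalk x ∧
      σ ≫ Curv2.bcSnd k X K = Spec.map (CommRingCat.ofHom
        (Algebra.TensorProduct.includeLeftRingHom : K →+* K ⊗[k] X.presheaf.stalk x)) ∧
      (Curv2.bcFst k X K).base ⁻¹' Set.range (X.fromSpecStalk x) ⊆ Set.range σ.base := by
  let ι := X.fromSpecStalk x
  let p := Curv2.bcFst k X K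
  let O := X.presheaf.stalk x
  have hP := (isPullback_SpecMap_of_isPushout _ _ _ _ (CommRingCat.isPushout_tensorProduct k K O)).flip
  have hS : Spec.map (CommRingCat.ofHom (algebraMap k O)) = ι ≫ (X ↘ Spec (CommRingCat.of k)) :=
    Groth.L07.FieldStalk.SpecMap_stalkMap k X x
  let e : Spec (CommRingCat.of (K ⊗[k] O)) ≅ pullback ι p :=
    hP.isoPullback ≪≫ pullback.congrHom hS rfl ≪≫ (pullbackRightPullbackFstIso _ _ ι).symm
  haveI : Flat ι := Groth.L05.Point.flat_fromSpecStalk x
  haveI : Flat (pullback.snd ι p) := inferInstance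
  haveI : IsPreimmersion (pullback.snd ι p) := MorphismProperty.pullback_snd _ _ inferInstance
  have hiso : ∀ z, IsIso ((pullback.snd ι p).stalkMap z) := fun z => by
    refine (ConcreteCategory.isIso_iff_bijective _).mpr ⟨?_, (pullback.snd ι p).stalkMap_surjective _⟩
    have hσ := Flat.stalkMap (pullback.snd ι p) z
    algebraize [((pullback.snd ι p).stalkMap z).hom]
    haveI : IsLocalHom (algebraMap ((Curv2.bc k X K).presheaf.stalk ((pullback.snd ι p) z))
        ((pullback ι p).presheaf.stalk z)) :=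
      inferInstanceAs (IsLocalHom ((pullback.snd ι p).stalkMap z).hom)
    haveI : Module.FaithfullyFlat ((Curv2.bc k X K).presheaf.stalk ((pullback.snd ι p) z))
        ((pullback ι p).presheaf.stalk z) := Module.FaithfullyFlat.of_flat_of_isLocalHom
    exact FaithfulSMul.algebraMap_injective ((Curv2.bc k X K).presheaf.stalk ((pullback.snd ι p) z))
      ((pullback ι p).presheaf.stalk z)
  refine ⟨e.hom ≫ pullback.snd ι p, fun Q => ?_, ?_, ?_, ?_⟩
  · haveI := hiso (e.hom Q)
    rw [Scheme.Hom.stalkMap_comp]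
    infer_instance
  · rw [Category.assoc, ← pullback.condition]
    dsimp only [p]
    simp only [e, Iso.trans_hom, Iso.symm_hom, Category.assoc, pullbackRightPullbackFstIso_inv_fst_assoc,
      pullback.congrHom_hom, pullback.lift_fst_assoc, Category.comp_id, IsPullback.isoPullback_hom_fst_assoc]
    rfl
  · simp only [e, p, Iso.trans_hom, Iso.symm_hom, Category.assoc]
    erw [pullbackRightPullbackFstIso_inv_snd_snd, pullback.congrHom_hom, pullback.lift_snd]
    erw [Category.comp_id, IsPullback.isoPullback_hom_snd]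
  · rintro z ⟨w, hw⟩
    obtain ⟨v, -, hv⟩ := Scheme.Pullback.exists_preimage_pullback w z hw
    obtain ⟨Q, hQ⟩ := e.hom.homeomorph.surjective v
    exact ⟨Q, by rw [Scheme.Hom.comp_apply, show e.hom.base Q = v from hQ]; exact hv⟩

omit [X.Over (Spec (CommRingCat.of k))] [Field k] in
theorem frac_props {T L S : Type u} [CommRing T] [CommRing L] [CommRing S] [Algebra T L] {Q : Ideal T} [Q.IsPrime]
    [IsLocalization.AtPrime L Q] (ψ : L ≃+* S) (g : T →+* S) (hg : ∀ t, g t = ψ (algebraMap T L t)) :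
    (∀ v, ∃ a s, IsUnit (g s) ∧ v * g s = g a) ∧
      (∀ a b, g a = g b → ∃ s, IsUnit (g s) ∧ s * a = s * b) := by
  refine ⟨fun v => ?_, fun a b h => ?_⟩
  · obtain ⟨⟨a, s⟩, h⟩ := IsLocalization.surj Q.primeCompl (S := L) (ψ.symm v)
    refine ⟨a, s, (hg _).symm ▸ (IsLocalization.map_units L s).map ψ, ?_⟩
    rw [hg, hg, ← h, map_mul, ψ.apply_symm_apply]
  · rw [hg, hg] at h
    obtain ⟨s, hs⟩ := (IsLocalization.eq_iff_exists Q.primeCompl L).mp (ψ.injective h)
    exact ⟨s, (hg _).symm ▸ (IsLocalization.map_units L s).map ψ, hs⟩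

/-- The stalk of `Spec T` as a localization, moved along an isomorphism. -/
def asLoc (T : Type u) [CommRing T] (Q : PrimeSpectrum T) {S : CommRingCat.{u}}
    (e : (Spec (CommRingCat.of T)).presheaf.stalk Q ≅ S) :
    ((Spec.structureSheaf T).presheaf.stalk Q : Type u) ≃+* S :=
  e.commRingCatIsoToRingEquiv

omit [X.Over (Spec (CommRingCat.of k))] [Field k] in
theorem asLoc_spec (T : Type u) [CommRing T] (Q : PrimeSpectrum T) {S : CommRingCat.{u}}
    (e : (Spec (CommRingCat.of T)).presheaf.stalk Q ≅ S) (t : T) :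
    (StructureSheaf.toStalk T Q ≫ e.hom).hom t =
      asLoc T Q e (algebraMap T ((Spec.structureSheaf T).presheaf.stalk Q) t) := rfl

/-- The local ring at a point of `X_K` is a localization of `K ⊗ O_x`. -/
theorem exists_eta (y : ↥(Curv2.bc k X K)) :
    ∃ f : K ⊗[k] X.presheaf.stalk (Curv2.bcFst k X K y) →+* (Curv2.bc k X K).presheaf.stalk y,
      f.comp (Algebra.TensorProduct.includeRight : X.presheaf.stalk (Curv2.bcFst k X K y) →ₐ[k] _).toRingHom =
        ((Curv2.bcFst k X K).stalkMap y).hom ∧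
      (letI : (Curv2.bc k X K).Over (Spec (CommRingCat.of K)) := ⟨Curv2.bcSnd k X K⟩;
        f.comp Algebra.TensorProduct.includeLeftRingHom = Curv2.stalkMap K (Curv2.bc k X K) y) ∧
      (∀ v, ∃ a s, IsUnit (f s) ∧ v * f s = f a) ∧
      (∀ a b, f a = f b → ∃ s, IsUnit (f s) ∧ s * a = s * b) := by
  letI : (Curv2.bc k X K).Over (Spec (CommRingCat.of K)) := ⟨Curv2.bcSnd k X K⟩
  obtain ⟨σ, hσ, hσ1, hσ2, hσr⟩ := exists_chart k X K (Curv2.bcFst k X K y)
  obtain ⟨Q, hQ⟩ := hσr (show y ∈ _ from ⟨IsLocalRing.closedPoint _, by rw [Scheme.fromSpecStalk_closedPoint]⟩)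
  let T := K ⊗[k] X.presheaf.stalk (Curv2.bcFst k X K y)
  haveI := hσ Q
  let c : (Curv2.bc k X K).presheaf.stalk (σ.base Q) ≅ (Curv2.bc k X K).presheaf.stalk y :=
    (Curv2.bc k X K).presheaf.stalkCongr (.of_eq hQ)
  let e : (Spec (CommRingCat.of T)).presheaf.stalk Q ≅ (Curv2.bc k X K).presheaf.stalk y :=
    (asIso (σ.stalkMap Q)).symm ≪≫ c
  let g : CommRingCat.of T ⟶ (Curv2.bc k X K).presheaf.stalk y := StructureSheaf.toStalk T Q ≫ e.hom
  have hg : Spec.map g ≫ σ = (Curv2.bc k X K).fromSpecStalk y := by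
    have h1 : Spec.map (StructureSheaf.toStalk T Q) = (Spec (CommRingCat.of T)).fromSpecStalk Q :=
      (Spec.fromSpecStalk_eq' (CommRingCat.of T) Q).symm
    have hc : Spec.map c.hom ≫ (Curv2.bc k X K).fromSpecStalk (σ.base Q) = (Curv2.bc k X K).fromSpecStalk y :=
      Scheme.SpecMap_stalkSpecializes_fromSpecStalk (specializes_of_eq hQ.symm)
    simp only [g, e, Spec.map_comp, Category.assoc, Iso.trans_hom, Iso.symm_hom, asIso_inv]
    rw [h1, ← Scheme.SpecMap_stalkMap_fromSpecStalk, ← hc, Spec.map_inv, IsIso.inv_hom_id_assoc]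
  refine ⟨g.hom, ?_, ?_, ?_, ?_⟩
  · have h : Spec.map (CommRingCat.ofHom (g.hom.comp (Algebra.TensorProduct.includeRight :
        X.presheaf.stalk (Curv2.bcFst k X K y) →ₐ[k] T).toRingHom)) ≫ X.fromSpecStalk _ =
        Spec.map ((Curv2.bcFst k X K).stalkMap y) ≫ X.fromSpecStalk _ := by
      rw [Scheme.SpecMap_stalkMap_fromSpecStalk, ← hg, Category.assoc, hσ1, ← Spec.map_comp_assoc]
      rfl
    exact congrArg CommRingCat.Hom.hom (Spec.map_injective ((cancel_mono _).mp h))
  · have h : Spec.map (CommRingCat.ofHom (g.hom.comp (Algebra.TensorProduct.includeLeftRingHom : K →+* T))) =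
        Spec.map (CommRingCat.ofHom (Curv2.stalkMap K (Curv2.bc k X K) y)) := by
      rw [Groth.L07.FieldStalk.SpecMap_stalkMap K (Curv2.bc k X K) y]
      show _ = _ ≫ Curv2.bcSnd k X K
      rw [← hg, Category.assoc, hσ2, ← Spec.map_comp]
      rfl
    exact congrArg CommRingCat.Hom.hom (Spec.map_injective h)
  · exact (frac_props (Q := Q.asIdeal) (asLoc T Q e) g.hom (asLoc_spec T Q e)).1
  · exact (frac_props (Q := Q.asIdeal) (asLoc T Q e) g.hom (asLoc_spec T Q e)).2

omit [X.Over (Spec (CommRingCat.of k))] in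
/-- A geometrically reduced field extension stays reduced after base change. -/
theorem isReduced_tensor {κ : Type u} [CommRing κ] [Algebra k κ]
    (h : GeometricallyReduced (Spec.map (CommRingCat.ofHom (algebraMap k κ)))) : _root_.IsReduced (K ⊗[k] κ) := by
  have hP := (isPullback_SpecMap_of_isPushout _ _ _ _ (CommRingCat.isPushout_tensorProduct k K κ)).flip
  haveI : IsReduced (Spec (CommRingCat.of (K ⊗[k] κ))) :=
    h.geometrically_isReduced (Spec.map (CommRingCat.ofHom (algebraMap k K))) _ _ hP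
  exact affine_isReduced_iff _ |>.mp this

variable {k K} {R R' : Type u} [CommRing R] [IsLocalRing R] [IsNoetherianRing R] [CommRing R'] [IsLocalRing R']
  [IsNoetherianRing R'] [Algebra k R] [Algebra k R'] [Algebra K R'] [IsScalarTower k K R'] [Algebra R R']
  [IsScalarTower k R R'] [IsLocalHom (algebraMap R R')] [Module.Flat R R']

omit [X.Over (Spec (CommRingCat.of k))] in
/-- With equal dimensions and reduced residue base change, the maximal ideal extends to the maximal ideal. -/
theorem map_maximalIdeal_eq (hdim : ringKrullDim R = ringKrullDim R')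
    [_root_.IsReduced (K ⊗[k] ResidueField R)]
    (hfrac : ∀ v : R', ∃ a s : K ⊗[k] R, IsUnit (eta k K R R' s) ∧ v * eta k K R R' s = eta k K R R' a)
    (hker : ∀ a b : K ⊗[k] R, eta k K R R' a = eta k K R R' b →
      ∃ s, IsUnit (eta k K R R' s) ∧ s * a = s * b) :
    (maximalIdeal R).map (algebraMap R R') = maximalIdeal R' := by
  let η := eta k K R R'
  let S : Submonoid (K ⊗[k] R) := (IsUnit.submonoid R').comap η
  letI algη : Algebra (K ⊗[k] R) R' := η.toRingHom.toAlgebra
  haveI locη : IsLocalization S R' := by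
    refine ⟨fun y => y.2, fun v => ?_, fun {a b} h => ?_⟩
    · obtain ⟨a, s, hs, h⟩ := hfrac v
      exact ⟨(a, ⟨s, hs⟩), h⟩
    · obtain ⟨s, hs, h'⟩ := hker a b h
      exact ⟨⟨s, hs⟩, h'⟩
  let I : Ideal (K ⊗[k] R) := (maximalIdeal R).map (Algebra.TensorProduct.includeRight : R →ₐ[k] K ⊗[k] R)
  let π : K ⊗[k] R →ₐ[k] K ⊗[k] ResidueField R :=
    Algebra.TensorProduct.map (AlgHom.id k K) (IsScalarTower.toAlgHom k R (ResidueField R))
  have hπ : RingHom.ker π = I := by
    have := Algebra.TensorProduct.lTensor_ker (A := K) (IsScalarTower.toAlgHom k R (ResidueField R)) residue_surjective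
    refine this.trans ?_
    congr 1
    exact Ideal.ext fun r => residue_eq_zero_iff r
  have hηI : I.map η = (maximalIdeal R).map (algebraMap R R') := by
    change Ideal.map (η : K ⊗[k] R →+* R') (Ideal.map (Algebra.TensorProduct.includeRight : R →ₐ[k] K ⊗[k] R).toRingHom _) = _
    rw [Ideal.map_map]
    exact congrArg (fun f => Ideal.map f _) (RingHom.ext fun r => by simp [η])
  haveI : Nontrivial (EGA4.FibRing R R') := Ideal.Quotient.nontrivial_iff.mpr
    (ne_top_of_le_ne_top (maximalIdeal.isMaximal R').ne_top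
      (IsLocalRing.map_maximalIdeal_le (algebraMap R R')))
  haveI : IsLocalRing (EGA4.FibRing R R') := IsLocalRing.of_surjective' (Ideal.Quotient.mk _) Ideal.Quotient.mk_surjective
  have h0 := Groth.L06.FlatFibre.ringKrullDim_eq R R'
  rw [← hdim] at h0
  haveI : Ring.KrullDimLE 0 (EGA4.FibRing R R') := by
    rw [Ring.krullDimLE_iff]
    obtain ⟨a, ha⟩ := WithBot.ne_bot_iff_exists.mp (ringKrullDim_ne_bot (R := R))
    obtain ⟨b, hb⟩ := WithBot.ne_bot_iff_exists.mp (ringKrullDim_ne_bot (R := EGA4.FibRing R R'))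
    rw [← ha, ← hb, ← WithBot.coe_add, WithBot.coe_inj] at h0
    have ha' : a ≠ ⊤ := fun h => by
      have := ringKrullDim_lt_top (R := R)
      rw [← ha, h] at this
      exact this.ne rfl
    obtain ⟨n, rfl⟩ := ENat.ne_top_iff_exists.mp ha'
    have hb0 : b = 0 := by
      cases b with
      | top => simp at h0
      | coe m =>
        have h' : n = n + m := by exact_mod_cast h0
        have hm0 : m = 0 := by omega
        subst hm0
        rfl
    rw [← hb, hb0]
    rfl
  refine le_antisymm (IsLocalRing.map_maximalIdeal_le _) fun a ha => ?_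
  have h1 : Ideal.Quotient.mk (EGA4.mB R R') a ∈ nilradical (EGA4.FibRing R R') := by
    rw [Ring.KrullDimLE.nilradical_eq_maximalIdeal, ← Groth.L06.FlatFibre.map_maximalIdeal_fibRing R R']
    exact Ideal.mem_map_of_mem _ ha
  obtain ⟨N, hN⟩ := h1
  have hN : a ^ N ∈ EGA4.mB R R' := Ideal.Quotient.eq_zero_iff_mem.mp ((map_pow _ a N).trans hN)
  change a ^ N ∈ (maximalIdeal R).map (algebraMap R R') at hN
  obtain ⟨b, s, hs, h⟩ := hfrac a
  have h2 : η (b ^ N) ∈ I.map η := by
    rw [hηI, map_pow, ← h, mul_pow]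
    exact Ideal.mul_mem_right _ _ hN
  obtain ⟨t, ht, htb⟩ := (IsLocalization.algebraMap_mem_map_algebraMap_iff S R' I _).mp h2
  have h3 : t * b ∈ I := by
    rw [← hπ, RingHom.mem_ker]
    refine IsReduced.eq_zero _ ⟨N + 1, ?_⟩
    have h4 : (t * b) ^ (N + 1) ∈ I := by
      rw [show (t * b) ^ (N + 1) = (t ^ N * b) * (t * b ^ N) by ring]
      exact I.mul_mem_left _ htb
    rw [← hπ, RingHom.mem_ker, map_pow] at h4
    exact h4
  have h5 : η (t * b) ∈ I.map η := Ideal.mem_map_of_mem η h3
  rw [hηI, map_mul, ← h] at h5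
  have h6 := (Ideal.unit_mul_mem_iff_mem _ ht).mp h5
  exact (Ideal.mul_unit_mem_iff_mem _ hs).mp h6

end Groth.L06.ComplBC
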